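import Groth.Agent.H29Node.NodalMax
import Groth.Agent.H29Omega.FitBaseChange
import Groth.Agent.H29Fitt.Sheaf
import Groth.Agent.H17.PrinOmega
import Groth.Agent.H06Unram.DimInjective
import Mathlib

/-!
# The singular scheme of a nodal family is unramified over the base
-/

set_option autoImplicit false
set_option linter.style.haveILetI false
set_option backward.isDefEq.respectTransparency.types false
universe u

open CategoryTheory CategoryTheory.Limits AlgebraicGeometry TopologicalSpace

namespace Groth.Agent.H27NodalFitt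

open H29Node H29Node.SingLocus

/-- Without bad points the first Fitting subscheme is unramified. -/
theorem formallyUnramified_of_bad {R A C : Type u} [CommRing R] [CommRing A] [CommRing C] [Algebra R A]
    [Algebra R C] [Algebra A C] [IsScalarTower R A C] (hs : Function.Surjective (algebraMap A C))
    (hF : ∀ a ∈ fitt R A, algebraMap A C a = 0) (hbad : ∀ p, p ∉ bad R A) : Algebra.FormallyUnramified R C := by
  haveI hsing : Subsingleton (sing R A) := by
    rw [← Module.support_eq_empty_iff (R := A)]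
    exact Set.eq_empty_iff_forall_notMem.2 hbad
  have hle : ∀ ω, ω ∈ singRel R A := fun ω =>
    (Submodule.Quotient.mk_eq_zero _).1 (Subsingleton.elim (Submodule.Quotient.mk ω : sing R A) 0)
  let φ := KaehlerDifferential.map R R A C
  have hker : singRel R A ≤ LinearMap.ker φ := by
    refine sup_le (Submodule.smul_le.2 fun a ha ω _ => ?_) (Submodule.span_le.2 ?_)
    · rw [LinearMap.mem_ker, map_smul, ← algebraMap_smul C a (φ ω), hF a ha, zero_smul]
    · rintro _ ⟨a, ha, rfl⟩
      rw [SetLike.mem_coe, LinearMap.mem_ker, KaehlerDifferential.map_D, hF a ha, map_zero]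
  refine ⟨subsingleton_of_forall_eq 0 fun z => ?_⟩
  obtain ⟨ω, rfl⟩ := KaehlerDifferential.map_surjective_of_surjective R R A C hs z
  exact hker (hle ω)

variable {X B : Scheme.{u}} (f : X ⟶ B)

theorem exists_iso (hqs : QuasiSeparated f) (Ω : X.Modules) (d : OmegaSh.Der f Ω) (hd : OmegaSh.IsUniversal d) :
    Nonempty (Ω ≅ Omega.sheaf f) := by
  haveI := hqs
  obtain ⟨α, hα, -⟩ := hd _ (OmegaSh.dOmega f)
  obtain ⟨β, hβ, -⟩ := H17.PrinOmega.isUniversal_dOmega f Ω d
  obtain ⟨γ₁, -, h1⟩ := hd _ d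
  obtain ⟨γ₂, -, h2⟩ := H17.PrinOmega.isUniversal_dOmega f _ (OmegaSh.dOmega f)
  refine ⟨⟨α, β, (h1 _ ?_).trans (h1 _ ?_).symm, (h2 _ ?_).trans (h2 _ ?_).symm⟩⟩
  · show (d.postcomp α.val).postcomp β.val = d
    rw [hα, hβ]
  · rfl
  · show ((OmegaSh.dOmega f).postcomp β.val).postcomp α.val = OmegaSh.dOmega f
    rw [hβ, hα]
  · rfl

theorem sheafIdeal_congr {M N : X.Modules} (e : M ≅ N)
    (hN : ∀ U : X.affineOpens, Module.Finite Γ(X, U.1) Γ(N, U.1)) (r : ℕ) :
    Fitt.sheafIdeal M r = Fitt.sheafIdeal N r := by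
  refine congrArg Scheme.IdealSheafData.ofIdeals (funext fun U => ?_)
  haveI := hN U
  let g : Γ(M, U.1) ≃ₗ[Γ(X, U.1)] Γ(N, U.1) :=
    { toFun := e.hom.app U.1
      map_add' := map_add _
      map_smul' := fun a m => Scheme.Modules.Hom.app_smul e.hom a m
      invFun := e.inv.app U.1
      left_inv := fun m => congr(($(e.hom_inv_id)).app U.1 m)
      right_inv := fun m => congr(($(e.inv_hom_id)).app U.1 m) }
  exact (H29Fitt.ideal_congr g.symm r).symm

variable (hf : Curv2.IsNodalFamily f) [IsProper f]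

include hf in
theorem formallyUnramified_comp :
    FormallyUnramified ((Fitt.sheafIdeal (Omega.sheaf f) 1).subschemeι ≫ f) := by
  haveI : Flat f := hf.1
  haveI : LocallyOfFinitePresentation f := hf.2.1
  have hnode := (isNodalFamily_iff f).1 hf
  set I := Fitt.sheafIdeal (Omega.sheaf f) 1 with hI
  choose U V hxU hU hV hle using H29Omega.exists_affine_chart f
  refine IsZariskiLocalAtSource.of_openCover (Scheme.openCoverOfIsOpenCover I.subscheme
    (fun x => I.subschemeι ⁻¹ᵁ U x) (eq_top_iff.2 fun z _ =>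
      Opens.mem_iSup.2 ⟨I.subschemeι z, hxU (I.subschemeι z)⟩)) fun x => ?_
  let W := I.subschemeι ⁻¹ᵁ U x
  have hW : IsAffineOpen W := (hU x).preimage I.subschemeι
  have hWV : W ≤ (I.subschemeι ≫ f) ⁻¹ᵁ V x := fun z hz => hle x hz
  show FormallyUnramified (W.ι ≫ I.subschemeι ≫ f)
  letI : Algebra Γ(B, V x) Γ(X, U x) := (f.appLE (V x) (U x) (hle x)).hom.toAlgebra
  letI : Algebra Γ(X, U x) Γ(I.subscheme, W) := (I.subschemeι.app (U x)).hom.toAlgebra
  letI : Algebra Γ(B, V x) Γ(I.subscheme, W) := ((I.subschemeι ≫ f).appLE (V x) W hWV).hom.toAlgebra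
  haveI : IsScalarTower Γ(B, V x) Γ(X, U x) Γ(I.subscheme, W) := .of_algebraMap_eq fun a => by
    show ((I.subschemeι ≫ f).appLE (V x) W hWV).hom a = (I.subschemeι.app (U x)).hom ((f.appLE (V x) (U x) (hle x)).hom a)
    rw [← CommRingCat.comp_apply, Scheme.Hom.app_eq_appLE, Scheme.Hom.appLE_comp_appLE]
  have hF : ∀ a ∈ fitt Γ(B, V x) Γ(X, U x), algebraMap Γ(X, U x) Γ(I.subscheme, W) a = 0 := fun a ha => by
    have ha' : a ∈ I.ideal ⟨U x, hU x⟩ := by
      rw [hI, H29Fitt.sheafIdeal_ideal _ (H29Omega.isQCoh_sheaf f) (H29Omega.isFT_sheaf f),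
        H29Omega.ideal_omega f (hU x) (hV x) (hle x)]
      exact ha
    rw [← I.ker_subschemeι_app ⟨U x, hU x⟩] at ha'
    exact ha'
  have hbad : ∀ p, p ∉ bad Γ(B, V x) Γ(X, U x) := fun p =>
    ((nodalAt_iff f (hU x).fromSpec (hV x).fromSpec (IsAffineOpen.SpecMap_appLE_fromSpec f (hV x) (hU x) (hle x)) p
      ((hf.2.2 _).1)).1 (hnode _).2).2
  have hu := formallyUnramified_of_bad (I.subschemeι_app_surjective ⟨U x, hU x⟩) hF hbad
  have h1 : FormallyUnramified (Spec.map ((I.subschemeι ≫ f).appLE (V x) W hWV)) := by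
    rw [HasRingHomProperty.Spec_iff (P := @FormallyUnramified)]
    exact hu
  have h2 : FormallyUnramified (hW.fromSpec ≫ I.subschemeι ≫ f) := by
    rw [← IsAffineOpen.SpecMap_appLE_fromSpec (I.subschemeι ≫ f) (hV x) hW hWV]
    exact MorphismProperty.comp_mem _ _ _ h1 inferInstance
  rw [← hW.isoSpec_hom_fromSpec, Category.assoc]
  exact (MorphismProperty.cancel_left_of_respectsIso (P := @FormallyUnramified) _ _).mpr h2

include hf in
/-- The statement of the theorem. -/
theorem fittingOne_finite_unramified (Ω : X.Modules) (d : OmegaSh.Der f Ω) (hd : OmegaSh.IsUniversal d) :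
    IsFinite ((Fitt.sheafIdeal Ω 1).subschemeι ≫ f) ∧
      FormallyUnramified ((Fitt.sheafIdeal Ω 1).subschemeι ≫ f) := by
  obtain ⟨e⟩ := exists_iso f inferInstance Ω d hd
  rw [sheafIdeal_congr e
    (H29Fitt.finite_sections _ (H29Omega.isQCoh_sheaf f) (H29Omega.isFT_sheaf f))]
  haveI := formallyUnramified_comp f hf
  haveI := H06Unram.DimInjective.locallyQuasiFinite_of_formallyUnramified
    ((Fitt.sheafIdeal (Omega.sheaf f) 1).subschemeι ≫ f)
  exact ⟨IsFinite.of_isProper_of_locallyQuasiFinite _, inferInstance⟩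

end Groth.Agent.H27NodalFitt
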